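import Mathlib
import Cfsg.Agent.Lib.GL.TwoClasses

/-!
A semisimple class of `Sp₄(F)` whose square covers `PSp₄(F)` minus the identity.

The class is that of `x₀ = diag(L₀, L₀⁻ᵀ)` for an elliptic `L₀ ∈ GL₂(F)` with determinant `δ ∉ {0, 1}` and
trace `τ ≠ 0`. As no non-zero symmetric matrix is fixed by `L₀`, each `u(S) d(Y)` and `d(Y) v(T)` with `Y`
conjugate to `L₀` is conjugate to `x₀`; a Gauss decomposition with prescribed Levi part does the rest.
-/

set_option autoImplicit false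
set_option linter.unusedSectionVars false

open Matrix Cfsg.Agent.GL.TwoClasses

namespace Cfsg.Agent.PSp4Thompson

variable {F : Type*} [Field F]

local notation "M2" => Matrix (Fin 2) (Fin 2) F
local notation "GL2" => Matrix.GeneralLinearGroup (Fin 2) F
local notation "M4" => Matrix (Fin 2 ⊕ Fin 2) (Fin 2 ⊕ Fin 2) F
local notation "Sp4" => Matrix.symplecticGroup (Fin 2) F

/-- The Levi embedding. -/
def dd : GL2 →* Sp4 where
  toFun P := ⟨fromBlocks (P : M2) 0 0 ((P⁻¹ : GL2) : M2)ᵀ, SymplecticGroup.fromBlocks_mem_iff.2 (by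
    refine ⟨by simp, by simp, ?_⟩
    rw [← Matrix.transpose_mul, Units.inv_mul]; simp)⟩
  map_one' := by
    apply Subtype.ext
    simp [fromBlocks_one]
  map_mul' P Q := by
    apply Subtype.ext
    simp [fromBlocks_multiply, Matrix.transpose_mul, _root_.mul_inv_rev, Units.val_mul]

theorem coe_dd (P : GL2) :
    ((dd P : Sp4) : M4) = fromBlocks (P : M2) 0 0 ((P⁻¹ : GL2) : M2)ᵀ := rfl

/-- The lower unipotent element. -/
def uu (S : M2) (hS : S.IsSymm) : Sp4 :=
  ⟨fromBlocks 1 0 S 1, SymplecticGroup.fromBlocks_mem_iff.2 (by simp [hS.eq])⟩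

/-- The upper unipotent element. -/
def vv (S : M2) (hS : S.IsSymm) : Sp4 :=
  ⟨fromBlocks 1 S 0 1, SymplecticGroup.fromBlocks_mem_iff.2 (by simp [hS.eq])⟩

theorem coe_uu (S : M2) (hS : S.IsSymm) : ((uu S hS : Sp4) : M4) = fromBlocks 1 0 S 1 := rfl

theorem coe_vv (S : M2) (hS : S.IsSymm) : ((vv S hS : Sp4) : M4) = fromBlocks 1 S 0 1 := rfl

theorem uu_inv (S : M2) (hS : S.IsSymm) : (uu S hS)⁻¹ = uu (-S) hS.neg :=
  inv_eq_of_mul_eq_one_right (Subtype.ext (by
    rw [Submonoid.coe_mul, coe_uu, coe_uu, fromBlocks_multiply]; simp [fromBlocks_one]))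

theorem vv_inv (S : M2) (hS : S.IsSymm) : (vv S hS)⁻¹ = vv (-S) hS.neg :=
  inv_eq_of_mul_eq_one_right (Subtype.ext (by
    rw [Submonoid.coe_mul, coe_vv, coe_vv, fromBlocks_multiply]; simp [fromBlocks_one]))

/-- The parameters: an irreducible `X² - τ X + δ` with `δ ≠ 1` and `τ ≠ 0`. -/
structure Par (δ τ : F) : Prop where
  hδ0 : δ ≠ 0
  hδ1 : δ ≠ 1
  hτ : τ ≠ 0
  hroot : ∀ z : F, z * z - τ * z + δ ≠ 0

theorem exists_par [Fintype F] (h3 : 3 ≤ Fintype.card F) : ∃ δ τ : F, Par δ τ := by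
  classical
  obtain ⟨δ, hδ⟩ : ∃ δ : F, δ ∉ ({0, 1} : Finset F) := by
    by_contra H
    push Not at H
    have h1 : Fintype.card F ≤ ({0, 1} : Finset F).card :=
      Finset.card_le_card (s := Finset.univ) (fun a _ => H a)
    have h2 : ({0, 1} : Finset F).card ≤ 2 := Finset.card_le_two
    omega
  simp only [Finset.mem_insert, Finset.mem_singleton, not_or] at hδ
  obtain ⟨τ, hτ⟩ : ∃ τ : F, τ ∉ insert 0 (((Finset.univ.erase (0 : F)).erase 1).image fun r => r + δ / r) := by
    by_contra H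
    push Not at H
    have h1 := Finset.card_le_card (s := Finset.univ) (fun a _ => H a)
    rw [Finset.card_univ] at h1
    have h2 := Finset.card_insert_le (0 : F) (((Finset.univ.erase (0 : F)).erase 1).image fun r => r + δ / r)
    have h4 : (((Finset.univ.erase (0 : F)).erase 1).image fun r => r + δ / r).card ≤
        ((Finset.univ.erase (0 : F)).erase 1).card := Finset.card_image_le
    rw [Finset.card_erase_of_mem (by simp), Finset.card_erase_of_mem (by simp), Finset.card_univ] at h4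
    omega
  simp only [Finset.mem_insert, Finset.mem_image, Finset.mem_erase, Finset.mem_univ, and_true, not_or,
    not_exists, not_and] at hτ
  refine ⟨δ, τ, hδ.1, hδ.2, hτ.1, fun z hz => ?_⟩
  have hz0 : z ≠ 0 := by rintro rfl; exact hδ.1 (by linear_combination hz)
  by_cases hz1 : z = 1
  · subst hz1
    refine hτ.2 δ ⟨hδ.2, hδ.1⟩ ?_
    rw [div_self hδ.1]; linear_combination hz
  · refine hτ.2 z ⟨hz1, hz0⟩ ?_
    field_simp
    linear_combination hz

section

variable {δ τ : F} (h : Par δ τ)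

/-- The elliptic element of `GL₂`. -/
def L0 : GL2 := comp τ δ h.hδ0

include h in
theorem pm_not_root : τ ^ 2 ≠ (1 + δ) ^ 2 := by
  intro H
  have h1 : (τ - (1 + δ)) * (τ + (1 + δ)) = 0 := by linear_combination H
  rcases mul_eq_zero.1 h1 with h1 | h1
  · exact h.hroot 1 (by linear_combination -h1)
  · exact h.hroot (-1) (by linear_combination h1)

/-- `L₀` fixes no non-zero symmetric bilinear form. -/
theorem fix_lower {R : M2} (hR : R.IsSymm) (H : (L0 h : M2)ᵀ * R * (L0 h : M2) = R) : R = 0 := by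
  have hs : R 1 0 = R 0 1 := hR.apply 0 1
  have e00 := congrFun (congrFun H 0) 0
  have e01 := congrFun (congrFun H 0) 1
  have e11 := congrFun (congrFun H 1) 1
  simp [L0, coe_comp, Matrix.mul_apply, Fin.sum_univ_two, hs] at e00 e01 e11
  have key : R 0 0 = 0 ∧ R 0 1 = 0 := by
    by_cases hd : δ = -1
    · have ha : R 0 0 = 0 := by
        have : τ * R 0 0 = 0 := by
          rw [hd] at e01; linear_combination e01 - τ * e00
        exact (mul_eq_zero.1 this).resolve_left h.hτ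
      refine ⟨ha, ?_⟩
      have h2 : (2 : F) ≠ 0 := fun h2 => h.hδ1 (by linear_combination hd - h2)
      have : 2 * τ * R 0 1 = 0 := by
        rw [hd] at e11
        linear_combination e11 - τ ^ 2 * e00 + e00 - τ ^ 2 * ha
      exact (mul_eq_zero.1 this).resolve_left (mul_ne_zero h2 h.hτ)
    · have hd' : (1 : F) + δ ≠ 0 := fun h0 => hd (by linear_combination h0)
      have hb : R 0 1 * (1 + δ) = τ * R 0 0 := by linear_combination -e01 + τ * e00
      have hd1 : (1 : F) - δ ≠ 0 := sub_ne_zero.2 (Ne.symm h.hδ1)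
      have h1 : R 0 0 * (δ ^ 2 + τ ^ 2 - 1) = 2 * δ * τ * R 0 1 := by
        linear_combination e11 - τ ^ 2 * e00 + e00
      have h2 : R 0 0 * ((1 - δ) * (τ ^ 2 - (1 + δ) ^ 2)) = 0 := by
        linear_combination (1 + δ) * h1 + 2 * δ * τ * hb
      have ha : R 0 0 = 0 :=
        (mul_eq_zero.1 h2).resolve_right (mul_ne_zero hd1 (sub_ne_zero.2 (pm_not_root h)))
      exact ⟨ha, (mul_eq_zero.1 (show R 0 1 * (1 + δ) = 0 by rw [hb, ha, mul_zero])).resolve_right hd'⟩
  ext i j
  fin_cases i <;> fin_cases j <;> simp [key.1, key.2, hs]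
  linear_combination e00 + key.1

theorem fix_upper {R : M2} (hR : R.IsSymm) (H : (L0 h : M2) * R * (L0 h : M2)ᵀ = R) : R = 0 := by
  have hs : R 1 0 = R 0 1 := hR.apply 0 1
  have e00 := congrFun (congrFun H 0) 0
  have e01 := congrFun (congrFun H 0) 1
  have e11 := congrFun (congrFun H 1) 1
  simp [L0, coe_comp, Matrix.mul_apply, Matrix.vecMul, dotProduct, Fin.sum_univ_two, hs] at e00 e01 e11
  have key : R 1 1 = 0 ∧ R 0 1 = 0 := by
    by_cases hd : δ = -1
    · have ha : R 1 1 = 0 := by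
        have : τ * R 1 1 = 0 := by rw [hd] at e01; linear_combination e01
        exact (mul_eq_zero.1 this).resolve_left h.hτ
      refine ⟨ha, ?_⟩
      have h2 : (2 : F) ≠ 0 := fun h2 => h.hδ1 (by linear_combination hd - h2)
      have : 2 * τ * R 0 1 = 0 := by
        rw [hd] at e00
        linear_combination e11 + e00 - τ ^ 2 * ha
      exact (mul_eq_zero.1 this).resolve_left (mul_ne_zero h2 h.hτ)
    · have hd' : (1 : F) + δ ≠ 0 := fun h0 => hd (by linear_combination h0)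
      have hb : R 0 1 * (1 + δ) = -(τ * δ * R 1 1) := by linear_combination -e01
      have hd1 : (1 : F) - δ ≠ 0 := sub_ne_zero.2 (Ne.symm h.hδ1)
      have h1 : R 1 1 * (1 - δ ^ 2 - τ ^ 2) = 2 * τ * R 0 1 := by
        linear_combination -e11 - e00
      have h2 : R 1 1 * ((1 - δ) * ((1 + δ) ^ 2 - τ ^ 2)) = 0 := by
        linear_combination (1 + δ) * h1 + 2 * τ * hb
      have ha : R 1 1 = 0 :=
        (mul_eq_zero.1 h2).resolve_right (mul_ne_zero hd1 (sub_ne_zero.2 (Ne.symm (pm_not_root h))))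
      exact ⟨ha, (mul_eq_zero.1 (show R 0 1 * (1 + δ) = 0 by rw [hb, ha, mul_zero, neg_zero])).resolve_right hd'⟩
  ext i j
  fin_cases i <;> fin_cases j <;> simp [key.1, key.2, hs]
  linear_combination -e00 + δ ^ 2 * key.1

/-- The chosen element of `Sp₄`. -/
def x0 : Sp4 := dd (L0 h)

theorem not_sc_of_trace_det {A : M2} (ht : A.trace = τ) (hd : A.det = δ) (hp : Par δ τ) : ¬ IsSc A := by
  rintro ⟨a, b, c⟩
  rw [Matrix.trace_fin_two, ← c] at ht
  rw [Matrix.det_fin_two, a, b, ← c] at hd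
  exact hp.hroot (A 0 0) (by linear_combination (A 0 0) * ht - hd)

theorem isConj_L0 {Y : GL2} (ht : (Y : M2).trace = τ) (hd : (Y : M2).det = δ) : IsConj (L0 h) Y := by
  refine isConj_of_trace_det ?_ (not_sc_of_trace_det ht hd h) ?_ ?_
  · exact not_sc_of_trace_det (by simp [L0, coe_comp, Matrix.trace_fin_two])
      (by simp [L0, coe_comp, Matrix.det_fin_two]) h
  · simp [L0, coe_comp, Matrix.trace_fin_two, ht]
  · simp [L0, coe_comp, Matrix.det_fin_two, hd]

/-- The symmetric matrices. -/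
abbrev SymM := {R : M2 // R.IsSymm}

theorem isConj_lower [Fintype F] {Y : GL2} (hY : IsConj (L0 h) Y) (S : M2) (hS : S.IsSymm) :
    IsConj (x0 h) (uu S hS * dd Y) := by
  obtain ⟨P, rfl⟩ := isConj_iff.1 hY
  set S' : M2 := (P : M2)ᵀ * S * (P : M2) with hS'
  have hS's : S'.IsSymm := by
    simp [hS', Matrix.IsSymm, Matrix.transpose_mul, hS.eq, Matrix.mul_assoc]
  have e1 : uu S hS * dd P = dd P * uu S' hS's := by
    apply Subtype.ext
    rw [Submonoid.coe_mul, Submonoid.coe_mul, coe_uu, coe_uu, coe_dd, fromBlocks_multiply,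
      fromBlocks_multiply]
    simp only [Matrix.one_mul, Matrix.mul_one, Matrix.zero_mul, Matrix.mul_zero, add_zero, zero_add]
    congr 1
    rw [hS', ← Matrix.mul_assoc, ← Matrix.mul_assoc, ← Matrix.transpose_mul, Units.mul_inv,
      Matrix.transpose_one, Matrix.one_mul]
  let Φ : SymM (F := F) → SymM (F := F) := fun R =>
    ⟨R.1 - (((L0 h)⁻¹ : GL2) : M2)ᵀ * R.1 * (((L0 h)⁻¹ : GL2) : M2),
      R.2.sub (by simp [Matrix.IsSymm, Matrix.transpose_mul, R.2.eq, Matrix.mul_assoc])⟩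
  have hinj : Function.Injective Φ := by
    rintro ⟨R1, hR1⟩ ⟨R2, hR2⟩ e
    simp only [Φ, Subtype.mk.injEq] at e
    refine Subtype.ext (sub_eq_zero.1 (fix_lower h (hR1.sub hR2) ?_))
    have e' : R1 - R2 = (((L0 h)⁻¹ : GL2) : M2)ᵀ * (R1 - R2) * (((L0 h)⁻¹ : GL2) : M2) := by
      rw [Matrix.mul_sub, Matrix.sub_mul]; linear_combination (norm := abel) e
    conv_lhs => rw [e']
    rw [← Matrix.mul_assoc, ← Matrix.mul_assoc, ← Matrix.transpose_mul, Units.inv_mul,
      Matrix.transpose_one, Matrix.one_mul, Matrix.mul_assoc, Units.inv_mul, Matrix.mul_one]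
  obtain ⟨⟨R, hR⟩, hΦ⟩ := (Finite.injective_iff_surjective.1 hinj) ⟨S', hS's⟩
  simp only [Φ, Subtype.mk.injEq] at hΦ
  have e2 : uu R hR * dd (L0 h) = uu S' hS's * dd (L0 h) * uu R hR := by
    apply Subtype.ext
    simp only [Submonoid.coe_mul, coe_uu, coe_dd, fromBlocks_multiply, Matrix.one_mul, Matrix.mul_one,
      Matrix.zero_mul, Matrix.mul_zero, add_zero, zero_add]
    congr 1
    rw [← hΦ, Matrix.sub_mul, Matrix.mul_assoc _ _ ((L0 h : GL2) : M2), Units.inv_mul, Matrix.mul_one]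
    abel
  refine (isConj_iff.2 ⟨uu R hR, ?_⟩ : IsConj (x0 h) (uu S' hS's * dd (L0 h))).trans ?_
  · rw [x0, mul_inv_eq_iff_eq_mul, e2]
  · refine isConj_iff.2 ⟨dd P, ?_⟩
    rw [← mul_assoc (dd P), ← e1, map_mul, map_mul, map_inv]
    group

theorem isConj_upper [Fintype F] {Y : GL2} (hY : IsConj (L0 h) Y) (T : M2) (hT : T.IsSymm) :
    IsConj (x0 h) (dd Y * vv T hT) := by
  obtain ⟨P, rfl⟩ := isConj_iff.1 hY
  set T' : M2 := ((P⁻¹ : GL2) : M2) * T * ((P⁻¹ : GL2) : M2)ᵀ with hT'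
  have hT's : T'.IsSymm := by
    simp [hT', Matrix.IsSymm, Matrix.transpose_mul, hT.eq, Matrix.mul_assoc]
  have e1 : dd P * vv T' hT's = vv T hT * dd P := by
    apply Subtype.ext
    rw [Submonoid.coe_mul, Submonoid.coe_mul, coe_vv, coe_vv, coe_dd, fromBlocks_multiply,
      fromBlocks_multiply]
    simp only [Matrix.one_mul, Matrix.mul_one, Matrix.zero_mul, Matrix.mul_zero, add_zero, zero_add]
    congr 1
    rw [hT', ← Matrix.mul_assoc, ← Matrix.mul_assoc, Units.mul_inv, Matrix.one_mul]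
  let Φ : SymM (F := F) → SymM (F := F) := fun R =>
    ⟨(((L0 h)⁻¹ : GL2) : M2) * R.1 * (((L0 h)⁻¹ : GL2) : M2)ᵀ - R.1,
      Matrix.IsSymm.sub (by simp [Matrix.IsSymm, Matrix.transpose_mul, R.2.eq, Matrix.mul_assoc]) R.2⟩
  have hinj : Function.Injective Φ := by
    rintro ⟨R1, hR1⟩ ⟨R2, hR2⟩ e
    simp only [Φ, Subtype.mk.injEq] at e
    refine Subtype.ext (sub_eq_zero.1 (fix_upper h (hR1.sub hR2) ?_))
    have e' : R1 - R2 = (((L0 h)⁻¹ : GL2) : M2) * (R1 - R2) * (((L0 h)⁻¹ : GL2) : M2)ᵀ := by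
      rw [Matrix.mul_sub, Matrix.sub_mul]; linear_combination (norm := abel) -e
    conv_lhs => rw [e']
    rw [← Matrix.mul_assoc, ← Matrix.mul_assoc, Units.mul_inv, Matrix.one_mul, Matrix.mul_assoc,
      ← Matrix.transpose_mul, Units.mul_inv, Matrix.transpose_one, Matrix.mul_one]
  obtain ⟨⟨R, hR⟩, hΦ⟩ := (Finite.injective_iff_surjective.1 hinj) ⟨T', hT's⟩
  simp only [Φ, Subtype.mk.injEq] at hΦ
  have e2 : vv R hR * dd (L0 h) = dd (L0 h) * vv T' hT's * vv R hR := by
    apply Subtype.ext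
    simp only [Submonoid.coe_mul, coe_vv, coe_dd, fromBlocks_multiply, Matrix.one_mul, Matrix.mul_one,
      Matrix.zero_mul, Matrix.mul_zero, add_zero, zero_add]
    congr 1
    rw [← hΦ, ← Matrix.mul_add, add_sub_cancel, ← Matrix.mul_assoc, ← Matrix.mul_assoc, Units.mul_inv,
      Matrix.one_mul]
  refine (isConj_iff.2 ⟨vv R hR, ?_⟩ : IsConj (x0 h) (dd (L0 h) * vv T' hT's)).trans ?_
  · rw [x0, mul_inv_eq_iff_eq_mul, e2]
  · refine isConj_iff.2 ⟨dd P, ?_⟩
    rw [map_mul, map_mul, map_inv, mul_inv_eq_iff_eq_mul]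
    simp only [mul_assoc]
    rw [← e1]
    group

/-- The conic used to factor a companion matrix. -/
theorem exists_zc [Fintype F] (hp : Par δ τ) (t : F) (ht : t ≠ 2 * δ) :
    ∃ z c : F, z ^ 2 - τ * z + δ + c ^ 2 * δ ^ 2 + c * z * t - c * δ * τ = 0 := by
  by_cases h2 : (2 : F) = 0
  · have ht0 : t ≠ 0 := by rintro rfl; exact ht (by rw [h2, zero_mul])
    obtain ⟨z, hz⟩ := FiniteField.isSquare_of_char_two
      (by haveI : CharP F 2 := CharTwo.of_one_ne_zero_of_two_eq_zero one_ne_zero h2; exact ringChar.eq F 2)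
      (-(δ + (τ / t) ^ 2 * δ ^ 2 - τ / t * δ * τ))
    have e : τ / t * t = τ := div_mul_cancel₀ τ ht0
    exact ⟨z, τ / t, by linear_combination z * e - hz⟩
  · by_cases ht' : t = -(2 * δ)
    · refine ⟨δ / (2 * τ), 1 / (2 * τ), ?_⟩
      have := hp.hτ
      subst ht'
      field_simp
      ring
    · have h4 : (4 : F) ≠ 0 := by
        rw [show (4 : F) = 2 * 2 by norm_num]; exact mul_ne_zero h2 h2
      have he : δ ^ 2 - t ^ 2 / 4 ≠ 0 := by
        intro h0
        have h0' : (2 * δ - t) * (2 * δ + t) = 0 := by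
          field_simp at h0
          linear_combination h0
        rcases mul_eq_zero.1 h0' with h1 | h1
        · exact ht (by linear_combination -h1)
        · exact ht' (by linear_combination h1)
      obtain ⟨X₁, c, hxc⟩ := FiniteField.exists_root_sum_quadratic
        (f := (Polynomial.X ^ 2 : Polynomial F))
        (g := Polynomial.C (δ ^ 2 - t ^ 2 / 4) * Polynomial.X ^ 2 +
          Polynomial.C (t * τ / 2 - δ * τ) * Polynomial.X + Polynomial.C (δ - τ ^ 2 / 4))
        (Polynomial.degree_X_pow 2) (Polynomial.degree_quadratic he)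
        (FiniteField.odd_card_of_char_ne_two (fun hc => h2 (by
          have := ringChar.Nat.cast_ringChar (R := F)
          rw [hc] at this; exact_mod_cast this)))
      simp at hxc
      refine ⟨X₁ - (t * c - τ) / 2, c, ?_⟩
      field_simp at hxc ⊢
      apply mul_left_cancel₀ h2
      linear_combination hxc

/-- Admissible Levi parts. -/
def Adm (δ : F) (A : M2) : Prop := A = δ • (1 : M2) ∨ (¬ IsSc A ∧ A.trace ≠ 2 * δ)

theorem exists_factor [Fintype F] (A : GL2) (hdet : (A : M2).det = δ ^ 2) (hadm : Adm δ (A : M2)) :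
    ∃ Y1 Y2 : GL2, IsConj (L0 h) Y1 ∧ IsConj (L0 h) Y2 ∧ A = Y1 * Y2 := by
  rcases hadm with hA | ⟨hns, htr⟩
  · refine ⟨L0 h, GeneralLinearGroup.mkOfDetNeZero !![τ, δ; -1, 0]
      (by simp [Matrix.det_fin_two_of, h.hδ0]), IsConj.refl _, ?_, ?_⟩
    · refine isConj_L0 h ?_ ?_ <;>
        simp [GeneralLinearGroup.mkOfDetNeZero, Matrix.trace_fin_two, Matrix.det_fin_two]
    · apply Units.ext
      rw [hA, Units.val_mul]
      ext i j
      fin_cases i <;> fin_cases j <;>
        simp [L0, coe_comp, GeneralLinearGroup.mkOfDetNeZero, Matrix.mul_apply, Fin.sum_univ_two]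
  · obtain ⟨z, c, hq⟩ := exists_zc h _ htr
    set t := (A : M2).trace with ht
    set D : F := δ ^ 2 with hD
    set w := c * D + z * t - δ * τ with hw
    have hdz : z * (τ - z) - w * c = δ := by rw [hw, hD]; linear_combination -hq
    have hd0 := h.hδ0
    let Z : GL2 := GeneralLinearGroup.mkOfDetNeZero !![z, w; c, τ - z]
      (by rw [Matrix.det_fin_two_of, hdz]; exact h.hδ0)
    have hdetZ' : (-w / δ) * ((c * D + z * t) / δ) - ((-(τ - z) * D - w * t) / δ) * (z / δ) = δ := by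
      field_simp
      rw [hD] at *
      linear_combination δ ^ 2 * hdz
    let Z' : GL2 := GeneralLinearGroup.mkOfDetNeZero
      !![-w / δ, (-(τ - z) * D - w * t) / δ; z / δ, (c * D + z * t) / δ]
      (by rw [Matrix.det_fin_two_of, hdetZ']; exact h.hδ0)
    obtain ⟨P, hP⟩ := isConj_iff.1 (isConj_comp A hns)
    have hcomp : comp t (A : M2).det (det_ne_zero A) = Z * Z' := by
      apply Units.ext
      rw [coe_comp, Units.val_mul, hdet]
      ext i j
      fin_cases i <;> fin_cases j <;>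
        simp [Z, Z', GeneralLinearGroup.mkOfDetNeZero, Matrix.mul_apply, Fin.sum_univ_two] <;>
        field_simp
      · ring
      · linear_combination D * hdz
      · linear_combination -hdz
      · linear_combination -t * hdz
    refine ⟨P * Z * P⁻¹, P * Z' * P⁻¹, ?_, ?_, ?_⟩
    · refine (isConj_L0 h ?_ ?_).trans (isConj_iff.2 ⟨P, rfl⟩)
      · simp [Z, GeneralLinearGroup.mkOfDetNeZero, Matrix.trace_fin_two]
      · simp [Z, GeneralLinearGroup.mkOfDetNeZero, Matrix.det_fin_two_of, hdz]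
    · refine (isConj_L0 h ?_ ?_).trans (isConj_iff.2 ⟨P, rfl⟩)
      · simp [Z', GeneralLinearGroup.mkOfDetNeZero, Matrix.trace_fin_two]
        field_simp
        rw [hw]; ring
      · simp only [Z', GeneralLinearGroup.mkOfDetNeZero]
        exact (Matrix.det_fin_two_of _ _ _ _).trans hdetZ'
    · rw [← hP, hcomp]; group

end

section

variable {δ : F}

theorem shift_core (hδ0 : δ ≠ 0) (A C : M2) (hC0 : C 0 0 = 0) (hC1 : C 1 0 = 0)
    (hC : C ≠ 0) (ha : A 1 0 = 0 → A 0 0 ≠ δ ∧ A 0 0 ≠ 0) :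
    ∃ S : M2, S.IsSymm ∧ (A + S * C).det = δ ^ 2 ∧ ¬ IsSc (A + S * C) ∧ (A + S * C).trace ≠ 2 * δ := by
  obtain ⟨a12, a22, hdet, hns, htr⟩ : ∃ a12 a22 : F, A 0 0 * a22 - a12 * A 1 0 = δ ^ 2 ∧
      ¬ (a12 = 0 ∧ A 1 0 = 0) ∧ A 0 0 + a22 ≠ 2 * δ := by
    by_cases h10 : A 1 0 = 0
    · obtain ⟨hn, h0⟩ := ha h10
      refine ⟨1, δ ^ 2 / A 0 0, by rw [h10]; field_simp; ring, by simp, fun he => hn ?_⟩
      have e : (A 0 0 - δ) ^ 2 = 0 := by
        field_simp at he
        linear_combination he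
      exact sub_eq_zero.1 (pow_eq_zero_iff (n := 2) (by norm_num) |>.1 e)
    · refine ⟨(A 0 0 * (2 * δ - A 0 0 + 1) - δ ^ 2) / A 1 0, 2 * δ - A 0 0 + 1, by field_simp; ring,
        fun h => h10 h.2, fun he => one_ne_zero (α := F) (by linear_combination he)⟩
  obtain ⟨s11, s12, s22, e1, e2⟩ : ∃ s11 s12 s22 : F,
      s11 * C 0 1 + s12 * C 1 1 = a12 - A 0 1 ∧ s12 * C 0 1 + s22 * C 1 1 = a22 - A 1 1 := by
    by_cases hc : C 0 1 = 0
    · have hc1 : C 1 1 ≠ 0 := by
        intro h0; apply hC; ext i j; fin_cases i <;> fin_cases j <;> simp [hc, h0, hC0, hC1]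
      refine ⟨0, (a12 - A 0 1) / C 1 1, (a22 - A 1 1) / C 1 1, ?_, ?_⟩ <;> rw [hc] <;> field_simp <;> ring
    · refine ⟨(a12 - A 0 1 - (a22 - A 1 1) / C 0 1 * C 1 1) / C 0 1, (a22 - A 1 1) / C 0 1, 0, ?_, ?_⟩ <;>
        field_simp <;> ring
  have eM : A + !![s11, s12; s12, s22] * C = !![A 0 0, a12; A 1 0, a22] := by
    ext i j
    fin_cases i <;> fin_cases j <;> simp [Matrix.mul_apply, Matrix.vecMul, dotProduct, Fin.sum_univ_two, hC0, hC1]
    · linear_combination e1
    · linear_combination e2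
  refine ⟨!![s11, s12; s12, s22], ?_, ?_, ?_, ?_⟩
  · ext i j; fin_cases i <;> fin_cases j <;> rfl
  · rw [eM, Matrix.det_fin_two_of]; exact hdet
  · rw [eM]; exact fun h => hns ⟨h.1, h.2.1⟩
  · rw [eM, Matrix.trace_fin_two_of]; exact htr

theorem isSc_iff (A : M2) : IsSc A ↔ ∃ a : F, A = a • (1 : M2) := by
  constructor
  · rintro ⟨a, b, c⟩
    exact ⟨A 0 0, by ext i j; fin_cases i <;> fin_cases j <;> simp [a, b, c]⟩
  · rintro ⟨a, rfl⟩; simp [IsSc]

theorem exists_shift (hδ0 : δ ≠ 0) (hδ1 : δ ≠ 1) (A C : M2) (h1 : Aᵀ * C = Cᵀ * A) (hC : C ≠ 0)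
    (hgood : ∀ k, C *ᵥ k = 0 → A *ᵥ k = δ • k → k = 0) (hinj : ∀ k, C *ᵥ k = 0 → A *ᵥ k = 0 → k = 0) :
    ∃ S : M2, S.IsSymm ∧ (A + S * C).det = δ ^ 2 ∧ Adm δ (A + S * C) := by
  by_cases hdC : C.det = 0
  · obtain ⟨k, hk, hCk⟩ := Matrix.exists_mulVec_eq_zero_iff.2 hdC
    obtain ⟨a, b, hab⟩ : ∃ a b : F, k 0 * b - a * k 1 ≠ 0 := by
      by_cases h0 : k 0 = 0
      · refine ⟨1, 0, fun h => hk ?_⟩
        funext i; fin_cases i
        · exact h0
        · exact show k 1 = 0 by linear_combination -h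
      · exact ⟨0, 1, by simpa using h0⟩
    let P : GL2 := GeneralLinearGroup.mkOfDetNeZero !![k 0, a; k 1, b] (by rwa [Matrix.det_fin_two_of])
    have hPe : (P : M2) *ᵥ ![1, 0] = k := by
      funext i; fin_cases i <;> simp [P, GeneralLinearGroup.mkOfDetNeZero, Matrix.mulVec, dotProduct]
    have hcol : ∀ (M : M2) (i : Fin 2), (M *ᵥ ![1, 0]) i = M i 0 := by
      intro M i; simp [Matrix.mulVec, dotProduct]
    set A1 : M2 := ((P⁻¹ : GL2) : M2) * A * (P : M2) with hA1
    set C1 : M2 := (P : M2)ᵀ * C * (P : M2) with hC1d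
    have hC1col : C1 *ᵥ ![1, 0] = 0 := by
      rw [hC1d, ← Matrix.mulVec_mulVec, hPe, ← Matrix.mulVec_mulVec, hCk, Matrix.mulVec_zero]
    have hA1col : A1 *ᵥ ![1, 0] = ((P⁻¹ : GL2) : M2) *ᵥ (A *ᵥ k) := by
      rw [hA1, ← Matrix.mulVec_mulVec, hPe, ← Matrix.mulVec_mulVec]
    have hC1 : C1 ≠ 0 := by
      intro h0
      apply hC
      calc C = ((P⁻¹ : GL2) : M2)ᵀ * C1 * ((P⁻¹ : GL2) : M2) := by
            rw [hC1d, ← Matrix.mul_assoc, ← Matrix.mul_assoc, ← Matrix.transpose_mul, Units.mul_inv,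
              Matrix.transpose_one, Matrix.one_mul, Matrix.mul_assoc, Units.mul_inv, Matrix.mul_one]
        _ = 0 := by rw [h0, Matrix.mul_zero, Matrix.zero_mul]
    have ha : A1 1 0 = 0 → A1 0 0 ≠ δ ∧ A1 0 0 ≠ 0 := by
      intro h10
      have key : ∀ r, A1 0 0 = r → A *ᵥ k = r • k := by
        intro r hr
        have e : A1 *ᵥ ![1, 0] = r • ![1, 0] := by
          funext i; rw [hcol]; fin_cases i <;> simp [h10, hr]
        rw [hA1col] at e
        have e2 := congrArg (fun x => (P : M2) *ᵥ x) e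
        rw [Matrix.mulVec_mulVec, Units.mul_inv, Matrix.one_mulVec, Matrix.mulVec_smul, hPe] at e2
        exact e2
      exact ⟨fun hr => hk (hgood k hCk (key δ hr)),
        fun hr => hk (hinj k hCk ((key 0 hr).trans (zero_smul _ _)))⟩
    obtain ⟨S, hS, hdet, hns, htr⟩ := shift_core hδ0 A1 C1
      (by simpa [hcol] using congrFun hC1col 0) (by simpa [hcol] using congrFun hC1col 1) hC1 ha
    have econj : A1 + S * C1 = ((P⁻¹ : GL2) : M2) * (A + (P : M2) * S * (P : M2)ᵀ * C) * (P : M2) := by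
      rw [hA1, hC1d, Matrix.mul_add, Matrix.add_mul]
      congr 1
      simp only [← Matrix.mul_assoc, Units.inv_mul, Matrix.one_mul]
    refine ⟨(P : M2) * S * (P : M2)ᵀ, ?_, ?_, Or.inr ⟨?_, ?_⟩⟩
    · simp [Matrix.IsSymm, Matrix.transpose_mul, hS.eq, Matrix.mul_assoc]
    · rw [econj, Matrix.det_units_conj'] at hdet; exact hdet
    · rw [econj] at hns
      intro hsc
      apply hns
      obtain ⟨r, hr⟩ := (isSc_iff _).1 hsc
      exact (isSc_iff _).2 ⟨r, by simp [hr]⟩
    · rw [econj, Matrix.trace_units_conj'] at htr; exact htr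
  · have hu : IsUnit C.det := isUnit_iff_ne_zero.2 hdC
    have hX : (A * C⁻¹).IsSymm := by
      have huT : IsUnit Cᵀ.det := by rwa [Matrix.det_transpose]
      rw [Matrix.IsSymm, Matrix.transpose_mul, Matrix.transpose_nonsing_inv]
      calc Cᵀ⁻¹ * Aᵀ = Cᵀ⁻¹ * (Aᵀ * C) * C⁻¹ := by
            rw [← Matrix.mul_assoc, Matrix.mul_assoc (Cᵀ⁻¹ * Aᵀ), Matrix.mul_nonsing_inv _ hu, Matrix.mul_one]
        _ = A * C⁻¹ := by rw [h1, ← Matrix.mul_assoc, Matrix.nonsing_inv_mul _ huT, Matrix.one_mul]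
    suffices ∃ S' : M2, S'.IsSymm ∧ (S' * C).det = δ ^ 2 ∧ Adm δ (S' * C) by
      obtain ⟨S', hS', hdet, hadm⟩ := this
      refine ⟨S' - A * C⁻¹, hS'.sub hX, ?_⟩
      rw [show A + (S' - A * C⁻¹) * C = S' * C by
        rw [Matrix.sub_mul, Matrix.mul_assoc A, Matrix.nonsing_inv_mul _ hu, Matrix.mul_one, add_sub_cancel]]
      exact ⟨hdet, hadm⟩
    by_cases hsym : C.IsSymm
    · refine ⟨δ • C⁻¹, ?_, ?_, Or.inl ?_⟩
      · rw [Matrix.IsSymm, Matrix.transpose_smul, Matrix.transpose_nonsing_inv, hsym.eq]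
      · rw [Matrix.smul_mul, Matrix.nonsing_inv_mul _ hu, Matrix.det_smul, Matrix.det_one, Fintype.card_fin, mul_one]
      · rw [Matrix.smul_mul, Matrix.nonsing_inv_mul _ hu]
    · have hne : C 0 1 ≠ C 1 0 := by
        intro he; apply hsym; ext i j; fin_cases i <;> fin_cases j <;> simp [he]
      obtain ⟨x, s, y, hdet, htr⟩ : ∃ x s y : F, (x * y - s * s) * C.det = δ ^ 2 ∧
          x * C 0 0 + s * (C 1 0 + C 0 1) + y * C 1 1 ≠ 2 * δ := by
        by_cases h2 : (2 : F) = 0
        · let a := δ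
          have hσ : C 0 1 + C 1 0 ≠ 0 := fun h0 => hne (by linear_combination h0 - C 1 0 * h2)
          set e := δ ^ 2 / C.det with he
          by_contra H
          push Not at H
          have hf : ∀ x s : F, x ≠ 0 →
              x * x * C 0 0 + s * x * (C 0 1 + C 1 0) + (e + s * s) * C 1 1 = 0 := by
            intro x s hx
            have := H x s ((e + s * s) / x) (by rw [he]; field_simp; ring)
            rw [h2, zero_mul] at this
            field_simp at this
            linear_combination this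
          have k1 : C 1 1 + (C 0 1 + C 1 0) = 0 := by
            linear_combination hf 1 1 one_ne_zero - hf 1 0 one_ne_zero
          have k2 : C 1 1 + a * (C 0 1 + C 1 0) = 0 := by
            linear_combination hf a 1 hδ0 - hf a 0 hδ0
          have k3 : (a - 1) * (C 0 1 + C 1 0) = 0 := by linear_combination k2 - k1
          exact mul_ne_zero (sub_ne_zero.2 hδ1) hσ k3
        · set e := δ ^ 2 / C.det with he
          by_cases ht : C 0 0 + e * C 1 1 = 2 * δ
          · refine ⟨-1, 0, -e, by rw [he]; field_simp; ring, fun h' => ?_⟩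
            have : (2 : F) * (2 * δ) = 0 := by linear_combination -ht - h'
            exact mul_ne_zero h2 (mul_ne_zero h2 hδ0) this
          · exact ⟨1, 0, e, by rw [he]; field_simp; ring, by simpa using ht⟩
      refine ⟨!![x, s; s, y], ?_, ?_, Or.inr ⟨?_, ?_⟩⟩
      · ext i j; fin_cases i <;> fin_cases j <;> rfl
      · rw [Matrix.det_mul, Matrix.det_fin_two_of]; exact hdet
      · intro hsc
        obtain ⟨r, hr⟩ := (isSc_iff _).1 hsc
        have hdS : (!![x, s; s, y] : M2).det ≠ 0 := by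
          rw [Matrix.det_fin_two_of]
          exact left_ne_zero_of_mul (hdet ▸ pow_ne_zero 2 hδ0)
        have hS : (!![x, s; s, y] : M2).IsSymm := by ext i j; fin_cases i <;> fin_cases j <;> rfl
        have eC : C = r • (!![x, s; s, y] : M2)⁻¹ := by
          have := congrArg (fun M => (!![x, s; s, y] : M2)⁻¹ * M) hr
          rw [← Matrix.mul_assoc, Matrix.nonsing_inv_mul _ (isUnit_iff_ne_zero.2 hdS), Matrix.one_mul,
            Matrix.mul_smul, Matrix.mul_one] at this
          exact this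
        apply hsym
        rw [eC, Matrix.IsSymm, Matrix.transpose_smul, Matrix.transpose_nonsing_inv, hS.eq]
      · simpa [Matrix.trace_fin_two, Matrix.mul_apply, Matrix.vecMul, dotProduct, Fin.sum_univ_two, mul_add, add_assoc] using htr

end

section

variable {δ τ : F} (h : Par δ τ)

/-- Being a product of two conjugates of `x₀`. -/
def Cov (g : Sp4) : Prop := ∃ a b : Sp4, IsConj (x0 h) a ∧ IsConj (x0 h) b ∧ g = a * b

theorem cov_of_isConj {g g' : Sp4} (hgg : IsConj g g') (hg : Cov h g) : Cov h g' := by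
  obtain ⟨c, rfl⟩ := isConj_iff.1 hgg
  obtain ⟨a, b, ha, hb, rfl⟩ := hg
  exact ⟨c * a * c⁻¹, c * b * c⁻¹, ha.trans (isConj_iff.2 ⟨c, rfl⟩), hb.trans (isConj_iff.2 ⟨c, rfl⟩),
    by group⟩

theorem fin_two_other : ∀ i : Fin 2, ∃ j : Fin 2, j ≠ i ∧ ∀ l, l = i ∨ l = j := by decide

variable [Fintype F]

/-- A symplectic matrix with admissible upper left block is covered. -/
theorem cov_of_adm (g : Sp4) (A B C D : M2) (hg : (g : M4) = fromBlocks A B C D)
    (hdet : A.det = δ ^ 2) (hadm : Adm δ A) : Cov h g := by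
  have hmem : fromBlocks A B C D ∈ Matrix.symplecticGroup (Fin 2) F := hg ▸ g.2
  obtain ⟨r1, -, r3⟩ := SymplecticGroup.fromBlocks_mem_iff.1 hmem
  have hT := SymplecticGroup.transpose_mem hmem
  rw [fromBlocks_transpose] at hT
  obtain ⟨s1, -, -⟩ := SymplecticGroup.fromBlocks_mem_iff.1 hT
  simp only [Matrix.transpose_transpose] at s1
  let Ag : GL2 := GeneralLinearGroup.mkOfDetNeZero A (by rw [hdet]; exact pow_ne_zero 2 h.hδ0)
  have hAg : (Ag : M2) = A := rfl
  obtain ⟨Y1, Y2, h1, h2, hY⟩ := exists_factor h Ag (by rw [hAg]; exact hdet) (by rw [hAg]; exact hadm)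
  set Ai : M2 := ((Ag⁻¹ : GL2) : M2) with hAi
  have hiA : Ai * A = 1 := by rw [hAi, ← hAg, Units.inv_mul]
  have hAiA : A * Ai = 1 := by rw [hAi, ← hAg, Units.mul_inv]
  have hiAT : Aiᵀ * Aᵀ = 1 := by rw [← Matrix.transpose_mul, hAiA, Matrix.transpose_one]
  have hS : (C * Ai).IsSymm := by
    rw [Matrix.IsSymm, Matrix.transpose_mul]
    calc Aiᵀ * Cᵀ = Aiᵀ * (Cᵀ * A) * Ai := by
          rw [← Matrix.mul_assoc, Matrix.mul_assoc (Aiᵀ * Cᵀ), hAiA, Matrix.mul_one]
      _ = C * Ai := by rw [← r1, ← Matrix.mul_assoc, hiAT, Matrix.one_mul]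
  have hTs : (Ai * B).IsSymm := by
    rw [Matrix.IsSymm, Matrix.transpose_mul]
    calc Bᵀ * Aiᵀ = Ai * (A * Bᵀ) * Aiᵀ := by rw [← Matrix.mul_assoc, hiA, Matrix.one_mul]
      _ = Ai * B := by
          rw [s1, Matrix.mul_assoc, Matrix.mul_assoc, ← Matrix.transpose_mul, hiA, Matrix.transpose_one,
            Matrix.mul_one]
  refine ⟨uu (C * Ai) hS * dd Y1, dd Y2 * vv (Ai * B) hTs, isConj_lower h h1 _ _, isConj_upper h h2 _ _, ?_⟩
  rw [mul_assoc, ← mul_assoc (dd Y1), ← map_mul, ← hY]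
  apply Subtype.ext
  simp only [Submonoid.coe_mul, coe_uu, coe_dd, coe_vv, fromBlocks_multiply, Matrix.one_mul, Matrix.mul_one,
    Matrix.zero_mul, Matrix.mul_zero, add_zero, zero_add, hg, hAg, ← hAi]
  have hD : D = C * Ai * A * (Ai * B) + Aiᵀ := by
    have e : Aiᵀ * (Aᵀ * D - Cᵀ * B) = Aiᵀ := by rw [r3, Matrix.mul_one]
    rw [Matrix.mul_sub, ← Matrix.mul_assoc, hiAT, Matrix.one_mul, ← Matrix.mul_assoc, ← Matrix.transpose_mul,
      hS.eq] at e
    rw [Matrix.mul_assoc C Ai A, hiA, Matrix.mul_one, ← Matrix.mul_assoc]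
    exact sub_eq_iff_eq_add.1 e |>.trans (add_comm _ _)
  rw [← Matrix.mul_assoc A, hAiA, Matrix.one_mul, Matrix.mul_assoc C Ai A, hiA, Matrix.mul_one]
  rw [Matrix.mul_assoc C Ai A, hiA, Matrix.mul_one] at hD
  rw [Matrix.mul_assoc, ← hD]

/-- The condition under which the shift works. -/
def Good (δ : F) (g : Sp4) : Prop :=
  (g : M4).toBlocks₂₁ ≠ 0 ∧
    ∀ k, (g : M4).toBlocks₂₁ *ᵥ k = 0 → (g : M4).toBlocks₁₁ *ᵥ k = δ • k → k = 0

theorem cov_of_good (g : Sp4) (hgood : Good δ g) : Cov h g := by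
  obtain ⟨hC, hk⟩ := hgood
  set A := (g : M4).toBlocks₁₁ with hA
  set B := (g : M4).toBlocks₁₂ with hB
  set C := (g : M4).toBlocks₂₁ with hC'
  set D := (g : M4).toBlocks₂₂ with hD
  have hg : (g : M4) = fromBlocks A B C D := (fromBlocks_toBlocks _).symm
  obtain ⟨r1, -, r3⟩ := SymplecticGroup.fromBlocks_mem_iff.1 (hg ▸ g.2)
  have hinj : ∀ k, C *ᵥ k = 0 → A *ᵥ k = 0 → k = 0 := by
    intro k hCk hAk
    have e := congrArg (fun M => k ᵥ* M) r3
    simp only [Matrix.vecMul_sub, ← Matrix.vecMul_vecMul, Matrix.vecMul_transpose, hCk, hAk,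
      Matrix.zero_vecMul, sub_zero, Matrix.vecMul_one] at e
    exact e.symm
  obtain ⟨S, hS, hdet, hadm⟩ := exists_shift h.hδ0 h.hδ1 A C r1 hC hk hinj
  refine cov_of_isConj h (g := vv S hS * g * (vv S hS)⁻¹) ?_ ?_
  · exact isConj_iff.2 ⟨(vv S hS)⁻¹, by group⟩
  · refine cov_of_adm h _ (A + S * C) (B + S * D - (A + S * C) * S) C (D - C * S) ?_ hdet hadm
    rw [vv_inv, Submonoid.coe_mul, Submonoid.coe_mul, coe_vv, coe_vv, hg, fromBlocks_multiply, fromBlocks_multiply]
    simp [sub_eq_add_neg, add_comm]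

include h in
/-- In characteristic two a bad element has a good conjugate. -/
theorem exists_good_conj (hδ2 : δ * δ ≠ 1) (g : Sp4) (hC : (g : M4).toBlocks₂₁ ≠ 0)
    (k : Fin 2 → F) (hCk : (g : M4).toBlocks₂₁ *ᵥ k = 0)
    (hAk : (g : M4).toBlocks₁₁ *ᵥ k = δ • k) (hk : k ≠ 0) :
    ∃ g' : Sp4, IsConj g g' ∧ Good δ g' := by
  set A := (g : M4).toBlocks₁₁ with hA
  set B := (g : M4).toBlocks₁₂ with hB
  set C := (g : M4).toBlocks₂₁ with hC'
  set D := (g : M4).toBlocks₂₂ with hD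
  have hg : (g : M4) = fromBlocks A B C D := (fromBlocks_toBlocks _).symm
  obtain ⟨r1, -, r3⟩ := SymplecticGroup.fromBlocks_mem_iff.1 (hg ▸ g.2)
  obtain ⟨i, hi⟩ := Function.ne_iff.1 hk
  simp only [Pi.zero_apply] at hi
  obtain ⟨j, hij, hall⟩ := fin_two_other i
  set R : M2 := Matrix.diagonal (Pi.single i 1) with hR
  have hRs : R.IsSymm := Matrix.isSymm_diagonal _
  have hRv : ∀ x : Fin 2 → F, R *ᵥ x = Pi.single i (x i) := by
    intro x; funext l; rw [hR, Matrix.mulVec_diagonal]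
    by_cases hl : l = i
    · subst hl; simp
    · simp [hl]
  have hdot : ∀ x : Fin 2 → F, k ⬝ᵥ (R *ᵥ x) = k i * x i := fun x => by rw [hRv, dotProduct_single]
  have hkC : ∀ x, k ⬝ᵥ (C *ᵥ x) = 0 := by
    intro x
    have e : k ⬝ᵥ ((Aᵀ * C) *ᵥ x) = 0 := by
      rw [r1, ← Matrix.mulVec_mulVec, Matrix.dotProduct_mulVec, Matrix.vecMul_transpose, hCk, zero_dotProduct]
    rw [← Matrix.mulVec_mulVec, Matrix.dotProduct_mulVec, Matrix.vecMul_transpose, hAk, smul_dotProduct,
      smul_eq_mul] at e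
    exact (mul_eq_zero.1 e).resolve_left h.hδ0
  have hker : ∀ x : Fin 2 → F, C *ᵥ x = 0 → x i = 0 → x = 0 := by
    intro x hx hxi
    by_contra hx0
    have hxj : x j ≠ 0 := by
      intro h0; apply hx0; funext l; rcases hall l with rfl | rfl <;> assumption
    apply hC
    ext l m
    have e1 := congrFun hx l
    have e2 := congrFun hCk l
    simp only [Matrix.mulVec, dotProduct, Pi.zero_apply] at e1 e2
    have hs : ∀ f : Fin 2 → F, ∑ r, f r = f i + f j := by
      intro f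
      rw [show (Finset.univ : Finset (Fin 2)) = {i, j} by ext l; simp [hall l], Finset.sum_pair hij.symm]
    rw [hs, hxi, mul_zero, zero_add] at e1
    have ej := (mul_eq_zero.1 e1).resolve_right hxj
    rw [hs, ej, zero_mul, add_zero] at e2
    rcases hall m with rfl | rfl
    · exact (mul_eq_zero.1 e2).resolve_right hi
    · exact ej
  refine ⟨uu R hRs * g * (uu R hRs)⁻¹, isConj_iff.2 ⟨uu R hRs, rfl⟩, ?_⟩
  have hg' : ((uu R hRs * g * (uu R hRs)⁻¹ : Sp4) : M4) =
      fromBlocks (A - B * R) B (R * A + C - (R * B + D) * R) (R * B + D) := by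
    rw [uu_inv, Submonoid.coe_mul, Submonoid.coe_mul, coe_uu, coe_uu, hg, fromBlocks_multiply, fromBlocks_multiply]
    simp [sub_eq_add_neg, add_comm]
  rw [Good, hg', toBlocks_fromBlocks₁₁, toBlocks_fromBlocks₂₁]
  constructor
  · intro h0
    set e : Fin 2 → F := Pi.single j 1 with he
    have hRe : R *ᵥ e = 0 := by rw [hRv, he, Pi.single_eq_of_ne hij.symm, Pi.single_zero]
    have e0 := congrArg (fun M => M *ᵥ e) h0
    simp only [Matrix.sub_mulVec, Matrix.add_mulVec, ← Matrix.mulVec_mulVec, hRe, Matrix.mulVec_zero,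
      sub_zero, Matrix.zero_mulVec] at e0
    have e1 := congrArg (fun x => k ⬝ᵥ x) e0
    simp only [dotProduct_add, hdot, hkC, add_zero, dotProduct_zero] at e1
    have e2 : R *ᵥ (A *ᵥ e) = 0 := by
      rw [hRv, (mul_eq_zero.1 e1).resolve_left hi, Pi.single_zero]
    rw [e2, zero_add] at e0
    have := congrFun (hker e e0 (by rw [he, Pi.single_eq_of_ne hij.symm])) j
    simp [he] at this
  · intro x hx1 hx2
    simp only [Matrix.sub_mulVec, Matrix.add_mulVec, ← Matrix.mulVec_mulVec] at hx1 hx2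
    have hAx : A *ᵥ x = δ • x + B *ᵥ (R *ᵥ x) := by rw [← hx2]; abel
    rw [hAx, Matrix.mulVec_add, Matrix.mulVec_smul] at hx1
    have hCx : C *ᵥ x - D *ᵥ (R *ᵥ x) = -(δ • (R *ᵥ x)) := by
      rw [← sub_eq_zero, ← hx1]; abel
    have e : k ⬝ᵥ ((Aᵀ * C) *ᵥ x) - k ⬝ᵥ ((Aᵀ * D) *ᵥ (R *ᵥ x)) = -(k i * x i) := by
      have r3' : Aᵀ * D = 1 + Cᵀ * B := by rw [← r3]; abel
      rw [r1, r3', ← Matrix.mulVec_mulVec, Matrix.dotProduct_mulVec, Matrix.vecMul_transpose, hCk,
        zero_dotProduct, Matrix.add_mulVec, Matrix.one_mulVec, dotProduct_add, hdot, ← Matrix.mulVec_mulVec,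
        Matrix.dotProduct_mulVec k Cᵀ, Matrix.vecMul_transpose, hCk, zero_dotProduct]
      ring
    rw [← Matrix.mulVec_mulVec x, ← Matrix.mulVec_mulVec (R *ᵥ x), ← dotProduct_sub, ← Matrix.mulVec_sub, hCx,
      Matrix.dotProduct_mulVec, Matrix.vecMul_transpose, hAk, dotProduct_neg, dotProduct_smul, smul_dotProduct,
      hdot, smul_eq_mul, smul_eq_mul] at e
    have hxi : x i = 0 := by
      have : (δ * δ - 1) * (k i * x i) = 0 := by linear_combination -e
      rcases mul_eq_zero.1 this with h1 | h1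
      · exact absurd (sub_eq_zero.1 h1) hδ2
      · exact (mul_eq_zero.1 h1).resolve_left hi
    refine hker x ?_ hxi
    simpa [hRv, hxi] using hCx

/-- A non-central element has a conjugate with non-zero lower left block. -/
theorem exists_conj_lower_ne_zero (g : Sp4) (hg : g ∉ Subgroup.center Sp4) :
    ∃ g' : Sp4, IsConj g g' ∧ (g' : M4).toBlocks₂₁ ≠ 0 := by
  by_contra H
  push Not at H
  set A := (g : M4).toBlocks₁₁ with hA
  set B := (g : M4).toBlocks₁₂ with hB
  set C := (g : M4).toBlocks₂₁ with hC'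
  set D := (g : M4).toBlocks₂₂ with hD
  have hgb : (g : M4) = fromBlocks A B C D := (fromBlocks_toBlocks _).symm
  have hC0 : C = 0 := H g (IsConj.refl _)
  have hB0 : B = 0 := by
    have e := H (SymplecticGroup.symJ (Fin 2) F * g * (SymplecticGroup.symJ (Fin 2) F)⁻¹) (isConj_iff.2 ⟨_, rfl⟩)
    rw [Submonoid.coe_mul, Submonoid.coe_mul, SymplecticGroup.coe_inv, SymplecticGroup.coe_J, hgb, Matrix.J_transpose,
      J, fromBlocks_neg, fromBlocks_multiply, fromBlocks_multiply, fromBlocks_multiply, fromBlocks_multiply] at e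
    simpa using e
  have hu : ∀ S : M2, S.IsSymm → S * A = D * S := by
    intro S hS
    have e := H (uu S hS * g * (uu S hS)⁻¹) (isConj_iff.2 ⟨_, rfl⟩)
    rw [uu_inv, Submonoid.coe_mul, Submonoid.coe_mul, coe_uu, coe_uu, hgb, fromBlocks_multiply,
      fromBlocks_multiply, toBlocks_fromBlocks₂₁] at e
    simp [hC0, hB0] at e
    linear_combination (norm := abel) e
  have hDA : D = A := by simpa using (hu 1 Matrix.isSymm_one).symm
  have e1 := hu !![1, 0; 0, 0] (by ext i j; fin_cases i <;> fin_cases j <;> rfl)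
  have e2 := hu !![0, 1; 1, 0] (by ext i j; fin_cases i <;> fin_cases j <;> rfl)
  rw [hDA] at e1 e2
  have a01 := congrFun (congrFun e1 0) 1
  have a10 := congrFun (congrFun e1 1) 0
  have a00 := congrFun (congrFun e2 0) 1
  simp [Matrix.mul_apply, Fin.sum_univ_two] at a01 a10 a00
  obtain ⟨r, hr⟩ := (isSc_iff A).1 ⟨a01, a10.symm, a00.symm⟩
  apply hg
  rw [Subgroup.mem_center_iff]
  intro y
  apply Subtype.ext
  have e : (g : M4) = r • (1 : M4) := by
    rw [hgb, hC0, hB0, hDA, hr, ← fromBlocks_one, fromBlocks_smul, smul_zero]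
  rw [Submonoid.coe_mul, Submonoid.coe_mul, e]
  simp

/-- The central involution. -/
def negOne : Sp4 := ⟨-1, SymplecticGroup.neg_mem (one_mem _)⟩

theorem negOne_comm (g : Sp4) : g * negOne = negOne * g :=
  Subtype.ext (by simp [negOne])

theorem cov_main (g : Sp4) (hg : g ∉ Subgroup.center Sp4) : Cov h g ∨ Cov h (negOne * g) := by
  obtain ⟨g1, hc, hC⟩ := exists_conj_lower_ne_zero g hg
  obtain ⟨c, hcc⟩ := isConj_iff.1 hc
  suffices Cov h g1 ∨ Cov h (negOne * g1) by
    refine this.imp (cov_of_isConj h hc.symm) (cov_of_isConj h (isConj_iff.2 ⟨c⁻¹, ?_⟩))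
    rw [← hcc, ← mul_assoc, negOne_comm]
    group
  by_cases hgood : Good δ g1
  · exact Or.inl (cov_of_good h g1 hgood)
  have hex : ∃ k, (g1 : M4).toBlocks₂₁ *ᵥ k = 0 ∧
      (g1 : M4).toBlocks₁₁ *ᵥ k = δ • k ∧ k ≠ 0 := by
    by_contra hne
    push Not at hne
    exact hgood ⟨hC, hne⟩
  obtain ⟨k, hCk, hAk, hk⟩ := hex
  by_cases h2 : (2 : F) = 0
  · have hδ2 : δ * δ ≠ 1 := fun e => h.hδ1 (by
      have : (δ - 1) ^ 2 = 0 := by linear_combination e - (δ - 1) * h2
      exact sub_eq_zero.1 (pow_eq_zero_iff (n := 2) (by norm_num) |>.1 this))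
    obtain ⟨g', hg', hgood'⟩ := exists_good_conj h hδ2 g1 hC k hCk hAk hk
    exact Or.inl (cov_of_isConj h hg'.symm (cov_of_good h g' hgood'))
  · refine Or.inr (cov_of_good h _ ?_)
    set A := (g1 : M4).toBlocks₁₁ with hA
    set C := (g1 : M4).toBlocks₂₁ with hC'
    have e : ((negOne * g1 : Sp4) : M4) = -(g1 : M4) := by simp [negOne]
    have e11 : ((negOne * g1 : Sp4) : M4).toBlocks₁₁ = -A := by rw [e]; rfl
    have e21 : ((negOne * g1 : Sp4) : M4).toBlocks₂₁ = -C := by rw [e]; rfl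
    rw [Good, e11, e21]
    refine ⟨neg_ne_zero.2 hC, fun x hx hAx => ?_⟩
    rw [Matrix.neg_mulVec, neg_eq_zero] at hx
    rw [Matrix.neg_mulVec, neg_eq_iff_eq_neg] at hAx
    by_contra hx0
    have hd : k 0 * x 1 - x 0 * k 1 = 0 := by
      by_contra hd
      apply hC
      have hP : C * !![k 0, x 0; k 1, x 1] = 0 := by
        ext l m
        have a1 := congrFun hCk l
        have a2 := congrFun hx l
        simp [Matrix.mulVec, dotProduct, Fin.sum_univ_two] at a1 a2
        fin_cases m <;> simp [Matrix.mul_apply, Fin.sum_univ_two, a1, a2]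
      have := congrArg (fun M => M * (!![k 0, x 0; k 1, x 1] : M2)⁻¹) hP
      simpa [Matrix.mul_assoc, Matrix.mul_nonsing_inv _ (isUnit_iff_ne_zero.2 (show
        (!![k 0, x 0; k 1, x 1] : M2).det ≠ 0 by rw [Matrix.det_fin_two_of]; exact hd))] using this
    obtain ⟨r, hr⟩ : ∃ r : F, x = r • k := by
      by_cases hk0 : k 0 = 0
      · have hk1 : k 1 ≠ 0 := fun h1 => hk (by funext l; fin_cases l <;> assumption)
        rw [hk0, zero_mul, zero_sub, neg_eq_zero] at hd
        refine ⟨x 1 / k 1, ?_⟩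
        funext l; fin_cases l
        · simp [hk0, (mul_eq_zero.1 hd).resolve_right hk1]
        · simp [hk1]
      · refine ⟨x 0 / k 0, ?_⟩
        funext l; fin_cases l
        · simp [hk0]
        · simp; field_simp; linear_combination hd
    rw [hr, Matrix.mulVec_smul, hAk, smul_comm r δ k, ← hr] at hAx
    have : (2 * δ) • x = 0 := by rw [mul_smul, two_smul]; nth_rw 1 [hAx]; exact neg_add_cancel _
    exact hx0 ((smul_eq_zero.1 this).resolve_left (mul_ne_zero h2 h.hδ0))

theorem L0_pow : ((L0 h : GL2)) ^ (Fintype.card F ^ 2 - 1) = 1 := by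
  open Polynomial in
  have key : ((L0 h : GL2) : M2) ^ (Fintype.card F ^ 2 - 1) = 1 := by
    set f : F[X] := X ^ 2 + C (-τ) * X + C δ with hf
    have hm : f.Monic := by rw [hf]; monicity!
    have hdeg : f.natDegree = 2 := by rw [hf]; compute_degree!
    have hirr : Irreducible f := by
      rw [hm.irreducible_iff_roots_eq_zero_of_degree_le_three (by omega) (by omega)]
      refine Multiset.eq_zero_of_forall_notMem fun z hz => ?_
      rw [mem_roots hm.ne_zero] at hz
      simp [hf] at hz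
      exact h.hroot z (by linear_combination hz)
    have := Fact.mk hirr
    let pb := AdjoinRoot.powerBasis hm.ne_zero
    haveI : Module.Finite F (AdjoinRoot f) := pb.finite
    haveI : Finite (AdjoinRoot f) := Module.finite_of_finite F
    letI : Fintype (AdjoinRoot f) := Fintype.ofFinite _
    have hcard : Fintype.card (AdjoinRoot f) = Fintype.card F ^ 2 := by
      rw [← Nat.card_eq_fintype_card, Module.natCard_eq_pow_finrank (K := F), pb.finrank,
        AdjoinRoot.powerBasis_dim, hdeg, Nat.card_eq_fintype_card]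
    have hroot0 : AdjoinRoot.root f ≠ 0 := by
      intro h0
      rw [← AdjoinRoot.mk_X, AdjoinRoot.mk_eq_zero] at h0
      have := natDegree_le_of_dvd h0 X_ne_zero
      rw [hdeg, natDegree_X] at this
      omega
    have e1 := FiniteField.pow_card_sub_one_eq_one _ hroot0
    rw [hcard] at e1
    have hdvd : f ∣ (X : F[X]) ^ (Fintype.card F ^ 2 - 1) - 1 := by
      rw [← AdjoinRoot.mk_eq_zero, map_sub, map_pow, AdjoinRoot.mk_X, map_one, e1, sub_self]
    obtain ⟨q, hq⟩ := hdvd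
    have hLf : aeval ((L0 h : GL2) : M2) f = 0 := by
      rw [hf]
      simp [aeval_def, L0, coe_comp, pow_two]
      ext i j
      fin_cases i <;> fin_cases j <;>
        simp [Matrix.mul_apply, Fin.sum_univ_two, Matrix.algebraMap_matrix_apply] <;> ring
    have := congrArg (aeval ((L0 h : GL2) : M2)) hq
    rw [map_mul, hLf, zero_mul, map_sub, map_pow, aeval_X, map_one, sub_eq_zero] at this
    exact this
  exact Units.ext (by rw [Units.val_pow_eq_pow_val, key, Units.val_one])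

end

variable [Fintype F]

/-- The theorem. -/
theorem main (p : ℕ) [Fact p.Prime] [CharP F p] (h3 : 3 ≤ Fintype.card F) :
    ∃ x : Sp4 ⧸ Subgroup.center Sp4, ¬ p ∣ orderOf x ∧ ∀ g : Sp4 ⧸ Subgroup.center Sp4, g ≠ 1 →
      ∃ u v : Sp4 ⧸ Subgroup.center Sp4, g = (u * x * u⁻¹) * (v * x * v⁻¹) := by
  obtain ⟨δ, τ, h⟩ := exists_par h3
  let π := QuotientGroup.mk' (Subgroup.center Sp4)
  refine ⟨π (x0 h), ?_, ?_⟩
  · intro hp
    have h1 : orderOf (π (x0 h)) ∣ Fintype.card F ^ 2 - 1 := by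
      refine (orderOf_map_dvd (π.comp dd) (L0 h)).trans ?_
      exact orderOf_dvd_of_pow_eq_one (L0_pow h)
    obtain ⟨n, hpp, hn⟩ := FiniteField.card F p
    have h2 : p ∣ Fintype.card F ^ 2 := by
      rw [hn, ← pow_mul]; exact dvd_pow_self p (by positivity)
    have h4 : 1 ≤ Fintype.card F ^ 2 := Nat.one_le_pow _ _ Fintype.card_pos
    have h5 := Nat.dvd_sub h2 (hp.trans h1)
    rw [Nat.sub_sub_self h4] at h5
    exact hpp.ne_one (Nat.dvd_one.1 h5)
  · intro g hg
    obtain ⟨g0, rfl⟩ := QuotientGroup.mk'_surjective (Subgroup.center Sp4) g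
    have hnc : g0 ∉ Subgroup.center Sp4 := fun hc => hg ((QuotientGroup.eq_one_iff g0).2 hc)
    have hz : π (negOne * g0) = π g0 := by
      rw [map_mul, show π negOne = 1 from
        (QuotientGroup.eq_one_iff _).2 (Subgroup.mem_center_iff.2 negOne_comm), one_mul]
    have fin : ∀ g1 : Sp4, Cov h g1 → π g1 = π g0 →
        ∃ u v, π g0 = (u * π (x0 h) * u⁻¹) * (v * π (x0 h) * v⁻¹) := by
      rintro g1 ⟨a, b, ha, hb, rfl⟩ he
      obtain ⟨u, rfl⟩ := isConj_iff.1 ha
      obtain ⟨v, rfl⟩ := isConj_iff.1 hb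
      exact ⟨π u, π v, by rw [← he]; simp⟩
    rcases cov_main h g0 hnc with h1 | h1
    · exact fin _ h1 rfl
    · exact fin _ h1 hz

end Cfsg.Agent.PSp4Thompson
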